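import Mathlib
import Groth.Agent.S2420
import Groth.Agent.HilbPolyLib.Basic
import Groth.Agent.DevissLib.AnnIdeal
import Groth.Agent.PushLinLib.HH
import Groth.Agent.StabLib.Simple
import Groth.Agent.IntMultLib.Main
import Groth.Agent.StratLib.Light
import Groth.Agent.QCohLib.Bound
import Groth.Agent.QCohLib.ProjSpace

/-!
# Hilbert polynomials over Artinian local rings
-/

set_option autoImplicit false
universe u

open CategoryTheory CategoryTheory.Limits AlgebraicGeometry TopologicalSpace Opposite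
open DevissLib

noncomputable section

namespace HilbArtLib

section Smul

variable {X : Scheme.{u}}

theorem smulHom_zero (M : X.Modules) : StabLib.smulHom M 0 = 0 := by
  ext U m
  rw [StabLib.smulHom_app]
  exact (congrArg (· • m) (map_zero (X.presheaf.map (homOfLE (le_top : U ≤ ⊤)).op).hom)).trans (zero_smul _ m)

theorem smulHom_comp_hom {M N : X.Modules} (f : M ⟶ N) (r : Coh.Γtop X) :
    f ≫ StabLib.smulHom N r = StabLib.smulHom M r ≫ f := by
  ext U m
  change (StabLib.smulHom N r).app U (f.app U m) = f.app U ((StabLib.smulHom M r).app U m)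
  rw [StabLib.smulHom_app, StabLib.smulHom_app, Scheme.Modules.Hom.app_smul]

theorem smulHom_comp (M : X.Modules) (r s : Coh.Γtop X) :
    StabLib.smulHom M r ≫ StabLib.smulHom M s = StabLib.smulHom M (s * r) := by
  ext U m
  change (StabLib.smulHom M s).app U ((StabLib.smulHom M r).app U m) = _
  rw [StabLib.smulHom_app, StabLib.smulHom_app, StabLib.smulHom_app, ← mul_smul, ← map_mul]
  rfl

theorem smulHom_add (M : X.Modules) (r s : Coh.Γtop X) :
    StabLib.smulHom M (r + s) = StabLib.smulHom M r + StabLib.smulHom M s := by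
  ext U m
  change (StabLib.smulHom M (r + s)).app U m = (StabLib.smulHom M r).app U m + (StabLib.smulHom M s).app U m
  rw [StabLib.smulHom_app, StabLib.smulHom_app, StabLib.smulHom_app, ← add_smul, ← map_add]
  rfl

end Smul

variable {A : Type u} [CommRing A] [IsArtinianRing A] [IsLocalRing A] {r : ℕ} {X : Scheme.{u}}
  [X.Over (Spec (CommRingCat.of A))] (i : X ⟶ CohB1.ProjSpace r A) [IsClosedImmersion i]
  (hi : i ≫ CohB1.ProjSpace.toSpec r A = X ↘ Spec (CommRingCat.of A))

variable (A r) in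
/-- The Euler characteristic in lengths. -/
def chi (F : X.Modules) : ℚ :=
  (Finset.range (r + 1)).sum fun j => (-1 : ℚ) ^ j * ((Module.length A (Coh.HH X F j)).toNat : ℚ)

theorem length_HH_of_iso {F G : X.Modules} (e : F ≅ G) (j : ℕ) :
    Module.length A (Coh.HH X F j) = Module.length A (Coh.HH X G j) := by
  let f := X ↘ Spec (CommRingCat.of A)
  refine (LinearEquiv.ofLinear (AtlasCoh.hLin f e.hom j) (AtlasCoh.hLin f e.inv j) ?_ ?_).length_eq <;>
  · ext x
    change Sheaf.H.map ((QCohLib.toAbF X).map _) j (Sheaf.H.map ((QCohLib.toAbF X).map _) j x) = x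
    rw [← Sheaf.H.map_comp_apply, ← Functor.map_comp]
    simp only [Iso.inv_hom_id, Iso.hom_inv_id, CategoryTheory.Functor.map_id, Sheaf.H.map_id_apply]

theorem chi_congr {F G : X.Modules} (e : F ≅ G) : chi A r F = chi A r G :=
  Finset.sum_congr rfl fun j _ => by rw [length_HH_of_iso (A := A) e j]

omit [IsArtinianRing A] [IsLocalRing A] in
include hi in
theorem isProper_over : IsProper (X ↘ Spec (CommRingCat.of A)) := by
  haveI : IsProper (CohB1.ProjSpace.toSpec r A) := StratLib.isProper_toSpec r A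
  rw [← hi]
  infer_instance

omit [IsArtinianRing A] [IsLocalRing A] in
include hi in
theorem subsingleton_HH (F : X.Modules) [Coh.IsQCoh F] (j : ℕ) (hj : r < j) : Subsingleton (Coh.HH X F j) := by
  haveI : IsProper (CohB1.ProjSpace.toSpec r A) := StratLib.isProper_toSpec r A
  obtain ⟨e⟩ := PushLinLib.nonempty_HH_push_linear (q := CohB1.ProjSpace.toSpec r A) i F hi j
  haveI : Coh.IsQCoh ((Coh.push i).obj F) := QCohLib.isQCoh_pushforward i F
  have hsup : (Finset.univ : Finset (Fin (r + 1))).sup (QCohLib.stdOpen r A) = ⊤ := by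
    rw [Finset.sup_univ_eq_iSup, QCohLib.iSup_stdOpen]
  have h := QCohLib.subsingleton_HU_finsetSup ((Coh.push i).obj F) Finset.univ (QCohLib.stdOpen r A)
    (fun s hs _ => QCohLib.isAffineOpen_inf_stdOpen r A s hs) j (by simpa using hj)
  rw [hsup] at h
  haveI : Subsingleton (Coh.HH (CohB1.ProjSpace r A) ((Coh.push i).obj F) j) :=
    (QCohLib.subsingleton_H_iff ((QCohLib.toAbF _).obj ((Coh.push i).obj F)) j).mpr h
  exact e.toEquiv.subsingleton

include hi in
theorem chi_add {S : ShortComplex X.Modules} (hS : S.ShortExact) (h1 : Coh.IsCoh S.X₁) (h2 : Coh.IsCoh S.X₂)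
    (h3 : Coh.IsCoh S.X₃) : chi A r S.X₂ = chi A r S.X₁ + chi A r S.X₃ := by
  haveI := isProper_over i hi
  haveI := h1.1
  haveI := h2.1
  haveI := h3.1
  have h := Groth.Agent.S2420.result A X S hS h1 h2 h3 r fun j hj =>
    ⟨subsingleton_HH i hi S.X₁ j hj, subsingleton_HH i hi S.X₂ j hj, subsingleton_HH i hi S.X₃ j hj⟩
  have h' := congrArg (fun z : ℤ => (z : ℚ)) h
  simp only [chi]
  push_cast at h'
  exact h'

omit [IsArtinianRing A] [IsLocalRing A] in
/-- The structure map of a closed subscheme on which `m` vanishes factors through the residue field. -/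
theorem exists_factor {Z : Scheme.{u}} (p : Z ⟶ Spec (CommRingCat.of A)) (I : Ideal A)
    (h : ∀ a ∈ I, Coh.toGlobal p a = 0) :
    ∃ q : Z ⟶ Spec (CommRingCat.of (A ⧸ I)),
      q ≫ Spec.map (CommRingCat.ofHom (Ideal.Quotient.mk I)) = p ∧
        (Coh.toGlobal q).comp (Ideal.Quotient.mk I) = Coh.toGlobal p := by
  let φ : CommRingCat.of (A ⧸ I) ⟶ Γ(Z, ⊤) := CommRingCat.ofHom (Ideal.Quotient.lift I (Coh.toGlobal p) h)
  let q := Z.toSpecΓ ≫ Spec.map φ
  have hφ : CommRingCat.ofHom (Ideal.Quotient.mk I) ≫ φ = (Scheme.ΓSpecIso (CommRingCat.of A)).inv ≫ p.appTop := by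
    ext a
    rfl
  have hq : (Scheme.ΓSpecIso (CommRingCat.of (A ⧸ I))).inv ≫ q.appTop = φ := by
    rw [show q.appTop = (Spec.map φ).appTop ≫ Z.toSpecΓ.appTop from Scheme.Hom.comp_appTop _ _,
      Scheme.toSpecΓ_appTop, Scheme.ΓSpecIso_naturality φ, Iso.inv_hom_id_assoc]
  refine ⟨q, ext_of_isAffine ?_, ?_⟩
  · rw [Scheme.Hom.comp_appTop, ← cancel_epi (Scheme.ΓSpecIso (CommRingCat.of A)).inv, ← hφ, ← hq,
      Scheme.ΓSpecIso_inv_naturality_assoc]
  · ext a
    exact congr($hq (Ideal.Quotient.mk I a)).trans congr($hφ a)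

include hi in
/-- Modules killed by the maximal ideal. -/
theorem poly_of_killed (L : X.Modules) (hL : PicF.IsInvertible L) (F : X.Modules) (hF : Coh.IsCoh F)
    (h : ∀ a ∈ IsLocalRing.maximalIdeal A,
      StabLib.smulHom F (Coh.toGlobal (X ↘ Spec (CommRingCat.of A)) a) = 0) :
    ∃ P : Polynomial ℚ, ∀ m : ℕ, chi A r (CohB1.tensorMod F (CohB1.tensorPow L m)) = P.eval (m : ℚ) := by
  classical
  haveI := hF.1
  haveI := isProper_over i hi
  set p := X ↘ Spec (CommRingCat.of A) with hp
  let Z := (annIdeal F hF.2).subscheme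
  let j : Z ⟶ X := (annIdeal F hF.2).subschemeι
  have hker : j.ker = annIdeal F hF.2 := Scheme.IdealSheafData.ker_subschemeι _
  obtain ⟨G, hG, ⟨eG⟩⟩ := exists_coh_of_killed j hF (by rw [hker]; exact killed_annIdeal F hF.2)
  set I := IsLocalRing.maximalIdeal A
  have hzero : ∀ a ∈ I, Coh.toGlobal (j ≫ p) a = 0 := by
    intro a ha
    let g : Γ(X, ⊤) := Coh.toGlobal p a
    have e : Coh.toGlobal (j ≫ p) a = j.appTop g := by
      rfl
    rw [e]
    have hcov : (⊤ : Z.Opens) ≤ ⨆ U : X.affineOpens, j ⁻¹ᵁ U.1 := fun z _ => by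
      obtain ⟨U, hU, hz⟩ := QCohLib.exists_affine_nhd (j z)
      exact Opens.mem_iSup.mpr ⟨⟨U, hU⟩, hz⟩
    refine TopCat.Sheaf.eq_of_locally_eq' Z.sheaf (fun U : X.affineOpens => j ⁻¹ᵁ U.1) ⊤
      (fun U => homOfLE le_top) hcov _ 0 fun U => ?_
    refine Eq.trans ?_ (map_zero (Z.presheaf.map (homOfLE le_top).op).hom).symm
    refine (ConcreteCategory.congr_hom (j.naturality (homOfLE (le_top : U.1 ≤ ⊤)).op) g).symm.trans ?_
    refine RingHom.mem_ker.mp (?_ : X.presheaf.map (homOfLE (le_top : U.1 ≤ ⊤)).op g ∈ RingHom.ker (j.app U.1).hom)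
    rw [← Scheme.Hom.ker_apply, hker]
    refine Module.mem_annihilator.mpr fun m => ?_
    exact (StabLib.smulHom_app F g U.1 m).symm.trans (by rw [h a ha]; rfl)
  obtain ⟨q, hq, hq'⟩ := exists_factor (j ≫ p) I hzero
  letI : Field (A ⧸ I) := Ideal.Quotient.field I
  letI : Z.Over (Spec (CommRingCat.of (A ⧸ I))) := ⟨q⟩
  haveI : IsProper (Z ↘ Spec (CommRingCat.of (A ⧸ I))) := by
    change IsProper q
    haveI : IsProper (q ≫ Spec.map (CommRingCat.ofHom (Ideal.Quotient.mk I))) := by rw [hq]; infer_instance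
    exact IsProper.of_comp q (Spec.map (CommRingCat.ofHom (Ideal.Quotient.mk I)))
  have hL' : PicF.IsInvertible ((Scheme.Modules.pullback j).obj L) := AmpleDevLib.isInvertible_pb j hL
  obtain ⟨P, hP⟩ := HilbPolyLib.exists_isHilbPoly' (k := A ⧸ I) hL' hG
  refine ⟨P, fun m => ?_⟩
  rw [← hP m]
  -- transport
  set L' := (Scheme.Modules.pullback j).obj L
  set M := ShStab.twist Z L' G m with hM
  have hMc : Coh.IsCoh M := QCohLib.isCoh_of_iso (HilbPolyLib.swapIso (CohB1.tensorPow L' m) G)
    (HilbPolyLib.isCoh_tensor (AmpleThLib.tensorPow_isInvertible hL' m) hG)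
  haveI := hMc.1
  obtain ⟨e⟩ := IntMultLib.nonempty_push_tensorPows j 1 G (fun _ => L) (fun _ => hL) (fun _ => m)
  have eM : (Coh.push j).obj M ≅ CohB1.tensorMod F (CohB1.tensorPow L m) :=
    e ≪≫ HilbPolyLib.congrLeft eG (CohB1.tensorPow L m)
  rw [← chi_congr eM]
  haveI : IsProper p := isProper_over i hi
  have hlen : ∀ n, (Module.length A (Coh.HH X ((Coh.push j).obj M) n)).toNat =
      Module.finrank (A ⧸ I) (Coh.HH Z M n) := by
    intro n
    obtain ⟨e'⟩ := PushLinLib.nonempty_HH_push_linear (q := p) j M rfl n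
    haveI : Module.Finite (A ⧸ I) (Coh.HH Z M n) :=
      AtlasCoh.finiteCoh_of_isProper (Z ↘ Spec (CommRingCat.of (A ⧸ I))) M hMc n
    letI : Module A (Coh.HH Z M n) := Module.compHom _ (Coh.toGlobal (j ≫ p))
    haveI : IsScalarTower A (A ⧸ I) (Coh.HH Z M n) := IsScalarTower.of_algebraMap_smul fun a x => by
      change Coh.toGlobal q (Ideal.Quotient.mk I a) • x = Coh.toGlobal (j ≫ p) a • x
      rw [← hq']
      rfl
    have e1 : Module.length A (Coh.HH X ((Coh.push j).obj M) n) = Module.length A (Coh.HH Z M n) :=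
      e'.symm.length_eq
    rw [e1, Module.length_eq_of_surjective (R := A ⧸ I) (S := A) Ideal.Quotient.mk_surjective,
      Module.length_eq_finrank]
    simp
  unfold Curv2.euler chi
  simp only [hlen]
  have hsupp : ∀ n, r < n → Module.finrank (A ⧸ I) (Coh.HH Z M n) = 0 := fun n hn => by
    haveI : Coh.IsQCoh ((Coh.push j).obj M) := QCohLib.isQCoh_pushforward j M
    haveI := subsingleton_HH i hi ((Coh.push j).obj M) n hn
    rw [← hlen n, Module.length_eq_zero]
    rfl
  rw [finsum_eq_sum_of_support_subset _ (s := Finset.range (r + 1)) (fun n hn => ?_)]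
  · push_cast
    rfl
  · simp only [Function.mem_support, ne_eq] at hn
    rw [Finset.coe_range, Set.mem_Iio]
    by_contra hlt
    exact hn (by rw [hsupp n (by omega)]; simp)

omit [IsArtinianRing A] [IsLocalRing A] in
/-- Images of a scalar are killed by a scalar whose product with it kills the module. -/
theorem smulHom_image_eq_zero {F : X.Modules} (g c : Coh.Γtop X) (h : StabLib.smulHom F (c * g) = 0) :
    StabLib.smulHom (Abelian.image (StabLib.smulHom F g)) c = 0 := by
  rw [← cancel_epi (Abelian.factorThruImage (StabLib.smulHom F g)),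
    ← cancel_mono (Abelian.image.ι (StabLib.smulHom F g)), comp_zero, zero_comp, Category.assoc,
    ← smulHom_comp_hom, ← Category.assoc, Abelian.image.fac, smulHom_comp]
  exact h

omit [IsArtinianRing A] [IsLocalRing A] in
theorem smulHom_cokernel_eq_zero {F G : X.Modules} (φ : G ⟶ F) (c : Coh.Γtop X)
    (h : StabLib.smulHom F c = 0) : StabLib.smulHom (cokernel φ) c = 0 := by
  rw [← cancel_epi (cokernel.π φ), comp_zero, smulHom_comp_hom, h, zero_comp]

include hi in
theorem poly_of_annihilated (L : X.Modules) (hL : PicF.IsInvertible L) (I : Ideal A) : ∀ (F : X.Modules), Coh.IsCoh F →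
    (∀ a ∈ I, StabLib.smulHom F (Coh.toGlobal (X ↘ Spec (CommRingCat.of A)) a) = 0) →
    ∃ P : Polynomial ℚ, ∀ m : ℕ, chi A r (CohB1.tensorMod F (CohB1.tensorPow L m)) = P.eval (m : ℚ) := by
  induction I using IsNoetherian.induction with
  | _ I ih =>
    intro F hF h
    classical
    haveI := hF.1
    set 𝔪 := IsLocalRing.maximalIdeal A
    set τ := Coh.toGlobal (X ↘ Spec (CommRingCat.of A))
    by_cases hI : 𝔪 ≤ I
    · exact poly_of_killed i hi L hL F hF fun a ha => h a (hI ha)
    have hnil : ∃ k, 𝔪 ^ (k + 1) ≤ I := by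
      obtain ⟨N, hN⟩ := IsArtinianRing.isNilpotent_jacobson_bot (R := A)
      rw [IsLocalRing.jacobson_eq_maximalIdeal (⊥ : Ideal A) bot_ne_top] at hN
      exact ⟨N, (Ideal.pow_le_pow_right N.le_succ).trans (hN ▸ bot_le)⟩
    have hk0 : Nat.find hnil ≠ 0 := fun e => hI (by simpa [e] using Nat.find_spec hnil)
    obtain ⟨k, hk⟩ := Nat.exists_eq_succ_of_ne_zero hk0
    obtain ⟨a, ha, haI⟩ := SetLike.not_le_iff_exists.mp (Nat.find_min hnil (show k < Nat.find hnil by omega))
    set φ := StabLib.smulHom F (τ a)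
    have him := smulHom_image_eq_zero (F := F) (τ a)
    haveI := isProper_over i hi
    haveI : IsLocallyNoetherian X := LocallyOfFiniteType.isLocallyNoetherian (X ↘ Spec (CommRingCat.of A))
    haveI : CompactSpace X := QuasiCompact.compactSpace_of_compactSpace (X ↘ Spec (CommRingCat.of A))
    haveI : IsNoetherian X := ⟨⟩
    have hIm : Coh.IsCoh (Abelian.image φ) := isCoh_image φ hF hF
    have hCk : Coh.IsCoh (cokernel φ) := QCohLib.isCoh_cokernel φ hF.1 hF
    obtain ⟨P, hP⟩ := poly_of_killed i hi L hL (Abelian.image φ) hIm fun b hb => him (τ b) (by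
      rw [← map_mul]
      refine h _ (Nat.find_spec hnil ?_)
      rw [hk, pow_succ']
      exact Ideal.mul_mem_mul hb ha)
    obtain ⟨Q, hQ⟩ := ih (I ⊔ Ideal.span {a}) (left_lt_sup.mpr fun hle => haI (hle (Ideal.mem_span_singleton_self a)))
      (cokernel φ) hCk fun b hb => by
        obtain ⟨x, hx, y, hy, rfl⟩ := Submodule.mem_sup.mp hb
        obtain ⟨c, rfl⟩ := Ideal.mem_span_singleton'.mp hy
        rw [map_add, smulHom_add, smulHom_cokernel_eq_zero φ _ (h x hx), zero_add, ← cancel_epi (cokernel.π φ), comp_zero,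
          smulHom_comp_hom, map_mul]
        refine (congrArg (· ≫ cokernel.π φ) (smulHom_comp F (τ a) (τ c)).symm).trans ?_
        refine (Category.assoc _ _ _).trans ?_
        refine (congrArg (StabLib.smulHom F (τ a) ≫ ·) (smulHom_comp_hom (cokernel.π φ) (τ c)).symm).trans ?_
        refine (Category.assoc _ _ _).symm.trans ?_
        change (φ ≫ cokernel.π φ) ≫ _ = 0
        rw [cokernel.condition, zero_comp]
    refine ⟨P + Q, fun m => ?_⟩
    have hW := AmpleThLib.tensorPow_isInvertible hL m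
    have := chi_add (A := A) i hi (HilbPolyLib.shortExact_tensor hW (imCokSeq_shortExact φ))
      (HilbPolyLib.isCoh_tensor hW hIm) (HilbPolyLib.isCoh_tensor hW hF) (HilbPolyLib.isCoh_tensor hW hCk)
    rw [Polynomial.eval_add, ← hP m, ← hQ m, chi_congr (HilbPolyLib.swapIso F _),
      chi_congr (HilbPolyLib.swapIso (Abelian.image φ) _), chi_congr (HilbPolyLib.swapIso (cokernel φ) _)]
    exact this

include hi in
theorem exists_poly (L : X.Modules) (hL : PicF.IsInvertible L) (F : X.Modules) (hF : Coh.IsCoh F) :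
    ∃ P : Polynomial ℚ, ∀ m : ℕ, chi A r (CohB1.tensorMod F (CohB1.tensorPow L m)) = P.eval (m : ℚ) :=
  poly_of_annihilated i hi L hL ⊥ F hF fun a ha => by
    rw [(Submodule.mem_bot A).mp ha, map_zero, smulHom_zero]

end HilbArtLib

end
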